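import Mathlib

/-!
# Determinants of trace forms twisted by the involutory field automorphism
-/

set_option autoImplicit false

namespace CfsgLib.HallGen.OrthSpectrum

open Module

variable {F : Type*} [Field F] [Fintype F] {K : Type*} [Field K] [Fintype K] [Algebra F K]

/-- A linear functional is a multiple of the trace. -/
theorem exists_trace_rep (ℓ : K →ₗ[F] F) : ∃ μ : K, ∀ x, ℓ x = Algebra.trace F K (μ * x) := by
  have hnd := traceForm_nondegenerate F K
  refine ⟨((Algebra.traceForm F K).toDual hnd).symm ℓ, fun x => ?_⟩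
  rw [← Algebra.traceForm_apply, LinearMap.BilinForm.apply_toDual_symm_apply]

/-- The twisted trace form on a basis: a square of the conjugate-skew determinant times a norm. -/
theorem det_twisted_trace {d : ℕ} (hd : 1 ≤ d) (hfin : finrank F K = 2 * d) (b : Basis (Fin (2 * d)) F K)
    (lam : K) :
    ∃ D : K, D ≠ 0 ∧ D ^ Fintype.card F = -D ∧
      algebraMap F K
          (Matrix.of fun i j => Algebra.trace F K (lam * (b i ^ Fintype.card F ^ d * b j))).det =
        D ^ (Fintype.card F ^ d + 1) * lam ^ ((Fintype.card F ^ (2 * d) - 1) / (Fintype.card F - 1)) := by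
  classical
  obtain ⟨p, hc⟩ := CharP.exists F
  haveI := hc
  obtain ⟨e, hp, hq⟩ := FiniteField.card F p
  haveI : Fact p.Prime := ⟨hp⟩
  haveI : CharP K p := charP_of_injective_algebraMap (algebraMap F K).injective p
  set q := Fintype.card F
  have hcardK : Fintype.card K = q ^ (2 * d) := by
    rw [Module.card_eq_pow_finrank (K := F), hfin]
  let M : Matrix (Fin (2 * d)) (Fin (2 * d)) K := Matrix.of fun j k => b j ^ q ^ (k : ℕ)
  have htr : ∀ x : K, algebraMap F K (Algebra.trace F K x) = ∑ k : Fin (2 * d), x ^ q ^ (k : ℕ) := by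
    intro x
    rw [FiniteField.algebraMap_trace_eq_sum_pow, hfin, Nat.card_eq_fintype_card,
      Fin.sum_univ_eq_sum_range (fun k => x ^ q ^ k)]
  have hMM : (algebraMap F K).mapMatrix (Algebra.traceMatrix F b) = M * M.transpose := by
    ext i j
    simp only [RingHom.mapMatrix_apply, Matrix.map_apply, Algebra.traceMatrix_apply, Algebra.traceForm_apply,
      htr, Matrix.mul_apply, Matrix.transpose_apply, M, Matrix.of_apply, mul_pow]
  have hD : M.det ≠ 0 := by
    intro h0
    have h1 := congrArg Matrix.det hMM
    rw [Matrix.det_mul, h0, zero_mul, ← RingHom.map_det, map_eq_zero] at h1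
    exact det_traceForm_ne_zero b (by rwa [← Algebra.traceMatrix_of_basis])
  let σ : ℕ → (K →+* K) := fun j => iterateFrobenius K p (e * j)
  have hσ : ∀ j x, σ j x = x ^ q ^ j := fun j x => by
    show x ^ p ^ ((e : ℕ) * j) = _
    rw [pow_mul, ← hq]
  obtain ⟨d', hd'⟩ : ∃ d', 2 * d = d' + 1 := ⟨2 * d - 1, by omega⟩
  have hper : ∀ x : K, x ^ q ^ (2 * d) = x := fun x => by rw [← hcardK, FiniteField.pow_card]
  have hrot : (σ 1).mapMatrix M = M.submatrix id (finRotate (2 * d)) := by
    ext j k
    simp only [RingHom.mapMatrix_apply, Matrix.map_apply, Matrix.submatrix_apply, id, M, Matrix.of_apply, hσ,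
      ← pow_mul, ← pow_add]
    rcases eq_or_ne ((k : ℕ) + 1) (2 * d) with hk | hk
    · have h1 : ((finRotate (2 * d) k : Fin (2 * d)) : ℕ) = 0 := by
        revert k
        rw [hd']
        intro k hk
        rw [finRotate_succ_apply, show k = Fin.last d' from Fin.ext (by simp; omega), Fin.last_add_one]
        rfl
      rw [h1, hk, hper, pow_zero, pow_one]
    · have h1 : ((finRotate (2 * d) k : Fin (2 * d)) : ℕ) = k + 1 := by
        have : (k : ℕ) + 1 < 2 * d := by omega
        clear hk
        revert k
        rw [hd']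
        intro k hk
        rw [finRotate_succ_apply]
        exact Fin.val_add_one_of_lt' hk
      rw [h1]
  refine ⟨M.det, hD, ?_, ?_⟩
  · have h1 := congrArg Matrix.det hrot
    rw [← RingHom.map_det, hσ, pow_one, Matrix.det_permute'] at h1
    rw [h1]
    have hs : Equiv.Perm.sign (finRotate (2 * d)) = -1 := by
      rw [hd', sign_finRotate]
      exact Odd.neg_one_pow ⟨d - 1, by omega⟩
    rw [hs]
    simp
  · have hW : (algebraMap F K).mapMatrix
        (Matrix.of fun i j => Algebra.trace F K (lam * (b i ^ q ^ d * b j))) =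
        (σ d).mapMatrix M * Matrix.diagonal (fun k : Fin (2 * d) => lam ^ q ^ (k : ℕ)) * M.transpose := by
      ext i j
      rw [Matrix.mul_apply]
      simp only [RingHom.mapMatrix_apply, Matrix.map_apply, Matrix.of_apply, htr, Matrix.mul_diagonal,
        Matrix.transpose_apply, M, hσ, mul_pow, ← pow_mul]
      exact Finset.sum_congr rfl fun k _ => by rw [mul_comm (q ^ (k : ℕ)) (q ^ d)]; ring
    rw [RingHom.map_det, hW, Matrix.det_mul, Matrix.det_mul, ← RingHom.map_det, hσ, Matrix.det_diagonal,
      Matrix.det_transpose, Finset.prod_pow_eq_pow_sum, Fin.sum_univ_eq_sum_range (fun k => q ^ k),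
      Nat.geomSum_eq Fintype.one_lt_card]
    ring

end CfsgLib.HallGen.OrthSpectrum
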