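import Cfsg.Agent.Lib.HallGen.OrthSpectrum.TraceForms
import Cfsg.Agent.Lib.HallGen.SympSpectrum.Main
import Cfsg.Agent.Lib.Known.OmegaCriterion
import Cfsg.Agent.Lib.Classical.Quad.POmega
import Cfsg.Agent.Lib.Classical.HalfTorusOrders

/-!
# An element order of `PSp 2n` missing in `PΩ (2n+1)`
-/

set_option autoImplicit false

namespace CfsgLib.HallGen.OrthSpectrum

open Module Polynomial
open QuadraticMap (polar polarBilin)
open CfsgLib.Classical.Quad CfsgLib.Known.OmegaCriterion

variable {F : Type*} [Field F] [Fintype F]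

/-- A fixed-point-free action of prime order forces the dimension to be a multiple of the multiplicative
order of `q`. -/
theorem ord_dvd_finrank {W : Type*} [AddCommGroup W] [Module F W] [FiniteDimensional F W] {r e : ℕ}
    [Fact r.Prime] (he : orderOf (Fintype.card F : ZMod r) = e) (T : Module.End F W) (hT : T ^ r = 1)
    (hfix : ∀ w, T w = w → w = 0) : e ∣ finrank F W := by
  classical
  haveI : Finite W := Module.finite_of_finite F
  haveI := Fintype.ofFinite W
  let σ : Equiv.Perm W := ⟨T, ⇑(T ^ (r - 1)), fun w => by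
      rw [← Module.End.mul_apply, ← pow_succ, Nat.sub_add_cancel (Fact.out : r.Prime).one_le, hT]; rfl,
    fun w => by
      rw [← Module.End.mul_apply, ← pow_succ', Nat.sub_add_cancel (Fact.out : r.Prime).one_le, hT]; rfl⟩
  have hpow : ∀ k : ℕ, ∀ w, (σ ^ k) w = (T ^ k) w := by
    intro k
    induction k with
    | zero => intro w; rfl
    | succ k ih => intro w; rw [pow_succ, pow_succ, Equiv.Perm.mul_apply, ih]; rfl
  have hσ : σ ^ r ^ 1 = 1 := Equiv.ext fun w => by rw [pow_one, hpow, hT]; rfl
  have h := Equiv.Perm.card_compl_support_modEq hσ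
  have hs : (σ.supportᶜ : Finset W) = {0} := by
    ext w
    rw [Finset.mem_compl, Equiv.Perm.mem_support, not_not, Finset.mem_singleton]
    exact ⟨hfix w, fun h0 => by rw [h0]; exact map_zero T⟩
  rw [hs, Finset.card_singleton, Module.card_eq_pow_finrank (K := F),
    ← ZMod.natCast_eq_natCast_iff, Nat.cast_one, Nat.cast_pow] at h
  exact he ▸ orderOf_dvd_of_pow_eq_one h.symm

variable {p : ℕ} [Fact p.Prime] [CharP F p]

/-- In dimension `2n + 1` no element of trivial parity and spinor norm has order `p (q^(n-1) + 1)`. -/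
theorem no_element (hodd : Odd (Fintype.card F)) {V : Type*} [AddCommGroup V] [Module F V]
    [FiniteDimensional F V] {Q : QuadraticForm F V} (hQ : (polarBilin Q).Nondegenerate)
    (hR : reflGroup Q = ⊤) {n : ℕ} (hn : 3 ≤ n) (hV : finrank F V = 2 * n + 1) (g : OQ Q)
    (hord : orderOf g = p * (Fintype.card F ^ (n - 1) + 1)) (hpar : par g = 0) (hsp : spinor g = 1) :
    False := by
  classical
  have hp : p.Prime := Fact.out
  have h2 : (2 : F) ≠ 0 := two_ne_zero_of_odd rfl hodd
  have hp2 : p ≠ 2 := fun h => h2 (by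
    have := (CharP.cast_eq_zero_iff F p 2).2 (by rw [h])
    exact_mod_cast this)
  obtain ⟨d, rfl⟩ : ∃ d, n = d + 1 := ⟨n - 1, by omega⟩
  rw [Nat.add_sub_cancel] at hord
  set q := Fintype.card F with hq
  have hq1 : 1 < q := Fintype.one_lt_card
  set Mo := q ^ d + 1 with hMo
  have hpq : p ∣ q := by
    obtain ⟨c, -, hc⟩ := FiniteField.card F p
    exact hq ▸ hc ▸ dvd_pow_self p c.pos.ne'
  have hpMo : ¬ p ∣ Mo := fun h => hp.ne_one (Nat.dvd_one.1
    ((Nat.dvd_add_right (hpq.trans (dvd_pow_self q (by omega)))).1 h))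
  -- the semisimple and unipotent parts
  set s := g ^ p with hsdef
  set u := g ^ Mo with hudef
  have hso : orderOf s = Mo := by
    rw [hsdef, orderOf_pow_of_dvd hp.ne_zero (hord ▸ dvd_mul_right _ _), hord, Nat.mul_div_cancel_left _ hp.pos]
  have huo : orderOf u = p := by
    rw [hudef, orderOf_pow_of_dvd (by omega) (hord ▸ dvd_mul_left _ _), hord, Nat.mul_div_cancel _ (by omega)]
  let φ : OQ Q →* Module.End F V :=
    { toFun := fun x => ((x : V ≃ₗ[F] V) : V →ₗ[F] V), map_one' := rfl, map_mul' := fun _ _ => rfl }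
  have hφi : Function.Injective φ := fun a b h => Subtype.ext (LinearEquiv.toLinearMap_injective h)
  set S := φ s with hS
  set U := φ u with hU
  have hSU : Commute S U := ((Commute.refl g).pow_pow p Mo).map φ
  have hiso : ∀ a b, polar Q (S a) (S b) = polar Q a b := fun a b => OQ.map_polar s a b
  have hSM : S ^ Mo = 1 := by rw [hS, ← map_pow, ← hso, pow_orderOf_eq_one, map_one]
  haveI : Nontrivial V := Module.nontrivial_of_finrank_pos (R := F) (by omega)
  haveI : CharP (Module.End F V) p := charP_of_injective_algebraMap (algebraMap F _).injective p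
  set N := U - 1 with hN
  have hNp : N ^ p = 0 := by
    rw [hN, sub_pow_char_of_commute p (Commute.one_right _), one_pow, hU, ← map_pow, ← huo, pow_orderOf_eq_one,
      map_one, sub_self]
  -- a primitive prime divisor
  obtain ⟨r, hr, hr2, hre⟩ := CfsgLib.Classical.HalfTorus.exists_ppd (e := 2 * d) hodd hq1 (by omega)
  haveI := Fact.mk hr
  have hrM : r ∣ Mo := by
    have h1 : ((q : ZMod r) ^ d) * ((q : ZMod r) ^ d) = 1 := by
      rw [← pow_add, ← two_mul, ← hre, pow_orderOf_eq_one]
    rcases mul_self_eq_one_iff.1 h1 with e | e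
    · have := Nat.le_of_dvd (by omega) (hre ▸ orderOf_dvd_of_pow_eq_one e)
      omega
    · rw [← ZMod.natCast_eq_zero_iff, hMo, Nat.cast_add, Nat.cast_pow, e, Nat.cast_one, neg_add_cancel]
  have hrp : r ≠ p := fun h => hpMo (h ▸ hrM)
  set T := S ^ (Mo / r) with hT
  have hTr : T ^ r = 1 := by rw [hT, ← pow_mul, Nat.div_mul_cancel hrM, hSM]
  have hT1 : T ≠ 1 := fun h => by
    have h1 : s ^ (Mo / r) = 1 := hφi (by rw [map_pow, map_one]; exact h)
    have h3 := Nat.le_of_dvd (Nat.div_pos (Nat.le_of_dvd (by omega) hrM) hr.pos) (hso ▸ orderOf_dvd_of_pow_eq_one h1)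
    have := Nat.div_lt_self (show 0 < Mo by omega) hr.one_lt
    omega
  set W := LinearMap.range (T - 1) with hW
  set K₀ := LinearMap.ker (T - 1) with hK₀
  have hrF : (r : F) ≠ 0 := fun h => hrp ((Nat.prime_dvd_prime_iff_eq hp hr).1 ((CharP.cast_eq_zero_iff F p r).1 h)).symm
  have hdisj : Disjoint W K₀ := by
    rw [Submodule.disjoint_def]
    rintro w ⟨v, rfl⟩ hw
    rw [hK₀, LinearMap.mem_ker] at hw
    set x := (T - 1) v with hx
    have hTx : T x = x := by simpa [sub_eq_zero] using hw
    have hTv : T v = v + x := by rw [hx]; simp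
    have hk : ∀ k : ℕ, (T ^ k) v = v + (k : F) • x := by
      intro k
      induction k with
      | zero => simp
      | succ k ih =>
        rw [pow_succ', Module.End.mul_apply, ih, map_add, map_smul, hTx, hTv, Nat.cast_succ, add_smul, one_smul]
        abel
    have h := hk r
    rw [hTr, Module.End.one_apply, left_eq_add] at h
    exact (smul_eq_zero.1 h).resolve_left hrF
  have hcompl : IsCompl W K₀ := by
    refine ⟨hdisj, codisjoint_iff.2 (Submodule.eq_top_of_disjoint _ _ ?_ hdisj)⟩
    rw [hW, hK₀, LinearMap.finrank_range_add_finrank_ker]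
  have hWne : W ≠ ⊥ := fun h => hT1 (sub_eq_zero.1 (LinearMap.range_eq_bot.1 h))
  have hTiso : ∀ a b, polar Q (T a) (T b) = polar Q a b := by
    have hk : ∀ (k : ℕ) a b, polar Q ((S ^ k) a) ((S ^ k) b) = polar Q a b := by
      intro k
      induction k with
      | zero => intro a b; rfl
      | succ k ih => intro a b; rw [pow_succ, Module.End.mul_apply, Module.End.mul_apply, ih, hiso]
    exact hk _
  have horth : ∀ a ∈ W, ∀ b ∈ K₀, polar Q a b = 0 := by
    rintro _ ⟨v, rfl⟩ b hb
    rw [hK₀, LinearMap.mem_ker, LinearMap.sub_apply, Module.End.one_apply, sub_eq_zero] at hb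
    rw [LinearMap.sub_apply, Module.End.one_apply, QuadraticMap.polar_sub_left]
    conv_lhs => rw [← hb, hTiso, hb]
    rw [sub_self]
  -- invariant subspaces of `W`
  have hdimdvd : ∀ L : Submodule F V, L ≤ W → (∀ v ∈ L, T v ∈ L) → 2 * d ∣ finrank F L := by
    intro L hL hinv
    refine ord_dvd_finrank hre (T.restrict hinv) ?_ fun w hw => ?_
    · refine LinearMap.ext fun w => Subtype.ext ?_
      rw [Module.End.pow_restrict r, LinearMap.restrict_coe_apply, hTr]
      rfl
    · refine Subtype.ext (hdisj.le_bot ⟨hL w.2, ?_⟩)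
      rw [SetLike.mem_coe, hK₀, LinearMap.mem_ker, LinearMap.sub_apply, Module.End.one_apply, sub_eq_zero]
      exact congrArg Subtype.val hw
  have hTW : ∀ v ∈ W, T v ∈ W := by
    rintro _ ⟨v, rfl⟩
    exact ⟨T v, by simp⟩
  have hWfin : finrank F W = 2 * d := by
    obtain ⟨k, hk⟩ := hdimdvd W le_rfl hTW
    have h0 : 0 < finrank F W := Nat.pos_of_ne_zero fun h => hWne (Submodule.finrank_eq_zero.1 h)
    have hle : finrank F W ≤ 2 * (d + 1) + 1 := hV ▸ Submodule.finrank_le W
    have hk1 : 1 ≤ k := by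
      by_contra hh
      rw [show k = 0 by omega, mul_zero] at hk
      omega
    have hk2 : k < 2 := by
      by_contra hh
      have := Nat.mul_le_mul_left (2 * d) (show 2 ≤ k by omega)
      omega
    rw [hk, show k = 1 by omega, mul_one]
  have hKfin : finrank F K₀ = 3 := by
    have := Submodule.finrank_add_eq_of_isCompl hcompl
    omega
  -- maps commuting with `T` are zero or injective on `W`
  have hcomm : ∀ A : Module.End F V, Commute A T → (∀ v ∈ W, A v ∈ W) ∧ (∀ v ∈ K₀, A v ∈ K₀) ∧
      ((∀ v ∈ W, A v = 0) ∨ ∀ v ∈ W, A v = 0 → v = 0) := by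
    intro A hA
    have hA1 : Commute A (T - 1) := hA.sub_right (Commute.one_right _)
    refine ⟨?_, fun v hv => ?_, ?_⟩
    · rintro _ ⟨v, rfl⟩
      exact ⟨A v, (LinearMap.congr_fun hA1.eq v).symm⟩
    · rw [hK₀, LinearMap.mem_ker] at hv ⊢
      have h := LinearMap.congr_fun hA1.eq v
      simp only [Module.End.mul_apply, hv, map_zero] at h
      exact h.symm
    · have hinv : ∀ v ∈ W ⊓ LinearMap.ker A, T v ∈ W ⊓ LinearMap.ker A := by
        rintro v ⟨h1, h2⟩
        refine ⟨hTW v h1, ?_⟩
        rw [SetLike.mem_coe, LinearMap.mem_ker] at h2 ⊢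
        have h := LinearMap.congr_fun hA.eq v
        rw [Module.End.mul_apply, Module.End.mul_apply, h2, map_zero] at h
        exact h
      obtain ⟨k, hk⟩ := hdimdvd _ inf_le_left hinv
      rcases Nat.eq_zero_or_pos k with rfl | hk0
      · right
        intro v hv hv0
        rw [mul_zero, Submodule.finrank_eq_zero] at hk
        exact (Submodule.eq_bot_iff _).1 hk v ⟨hv, hv0⟩
      · left
        intro v hv
        have h1 : W ⊓ LinearMap.ker A = W := Submodule.eq_of_le_of_finrank_le inf_le_left (by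
          rw [hWfin, hk]; exact Nat.le_mul_of_pos_right _ hk0)
        exact LinearMap.mem_ker.1 (h1.symm.le hv).2
  have hNT : Commute N T := ((hSU.symm.pow_right _).sub_left (Commute.one_left _))
  have hNW : ∀ v ∈ W, N v = 0 := by
    rcases (hcomm N hNT).2.2 with h | h
    · exact h
    intro v hv
    have key : ∀ k, ∀ w ∈ W, (N ^ k) w = 0 → w = 0 := by
      intro k
      induction k with
      | zero => exact fun w _ hw => hw
      | succ k ih =>
        intro w hw hk
        rw [pow_succ, Module.End.mul_apply] at hk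
        exact h w hw (ih _ ((hcomm N hNT).1 w hw) hk)
    rw [key p v hv (by rw [hNp]; rfl), map_zero]
  -- `S` on `K₀` is a scalar
  obtain ⟨c, hc⟩ : ∃ c : F, ∀ v ∈ K₀, S v = c • v := by
    have hST : Commute S T := Commute.self_pow S _
    have hNK := (hcomm N hNT).2.1
    obtain ⟨v, hv, hNNv⟩ : ∃ v ∈ K₀, N (N v) ≠ 0 := by
      by_contra hcon
      push Not at hcon
      have hN1 : N ≠ 0 := fun h => by
        have : u = 1 := hφi ((sub_eq_zero.1 h).trans (map_one φ).symm)
        rw [this, orderOf_one] at huo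
        exact hp.ne_one huo.symm
      refine hN1 (LinearMap.ext fun z => ?_)
      obtain ⟨a, ha, b, hb, rfl⟩ := Submodule.mem_sup.1 ((codisjoint_iff.1 hcompl.2).ge (Submodule.mem_top (x := z)))
      rw [map_add, hNW a ha, zero_add]
      have hUiso : ∀ x y, polar Q (x + N x) (y + N y) = polar Q x y := by
        intro x y
        have e : ∀ z, z + N z = U z := fun z => by simp [hN]
        rw [e, e]
        exact OQ.map_polar u x y
      have hskew : ∀ x ∈ K₀, ∀ y ∈ K₀, polar Q (N x) (N y) = 0 → polar Q (N x) y + polar Q x (N y) = 0 := by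
        intro x _ y _ h0
        have h := hUiso x y
        simp only [QuadraticMap.polar_add_left, polar_add_right', h0] at h
        linear_combination h
      have hNN0 : ∀ x ∈ K₀, ∀ y ∈ K₀, polar Q (N x) (N y) = 0 := by
        intro x hx y hy
        have h1 := hUiso x (N y)
        rw [hcon y hy, add_zero, QuadraticMap.polar_add_left] at h1
        linear_combination h1
      -- the image of `N` is a totally isotropic line
      set L := (K₀.map N : Submodule F V) with hL
      have hLK : L ≤ K₀ := by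
        rintro _ ⟨x, hx, rfl⟩
        exact hNK x hx
      have hker : L ≤ K₀ ⊓ LinearMap.ker N := fun x hx => ⟨hLK hx, by
        obtain ⟨y, hy, rfl⟩ := hx
        exact hcon y hy⟩
      have hrk : finrank F L ≤ 1 := by
        have h1 := LinearMap.finrank_range_add_finrank_ker (N.domRestrict K₀)
        rw [LinearMap.range_domRestrict, LinearMap.ker_domRestrict, hKfin] at h1
        have h2 : finrank F L ≤ finrank F (Submodule.comap K₀.subtype (LinearMap.ker N)) := by
          rw [← (Submodule.comapSubtypeEquivOfLe hLK).finrank_eq]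
          exact Submodule.finrank_mono (Submodule.comap_mono (hker.trans inf_le_right))
        rw [← hL] at h1
        omega
      obtain ⟨a₀, ha₀⟩ := ((Submodule.finrank_le_one_iff_isPrincipal L).1 hrk).1
      have hform : ∀ x ∈ K₀, ∃ t : F, N x = t • a₀ := fun x hx => by
        have : N x ∈ Submodule.span F {a₀} := ha₀.le ⟨x, hx, rfl⟩
        obtain ⟨t, ht⟩ := Submodule.mem_span_singleton.1 this
        exact ⟨t, ht.symm⟩
      by_contra hNb
      obtain ⟨t, ht⟩ := hform b hb
      have ht0 : t ≠ 0 := fun h => hNb (by rw [ht, h, zero_smul]; rfl)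
      refine hNb ?_
      rw [LinearMap.zero_apply]
      refine hQ.1 _ fun z => ?_
      show polar Q (N b) z = 0
      obtain ⟨a', ha', b', hb', rfl⟩ := Submodule.mem_sup.1 ((codisjoint_iff.1 hcompl.2).ge (Submodule.mem_top (x := z)))
      rw [polar_add_right', QuadraticMap.polar_comm Q (N b) a', horth a' ha' _ (hNK b hb), zero_add]
      obtain ⟨t', ht'⟩ := hform b' hb'
      have h3 := hskew b hb b' hb' (hNN0 b hb b' hb')
      have h4 := hskew b hb b hb (hNN0 b hb b hb)
      rw [ht, ht', polar_smul_left', polar_smul_right'] at h3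
      rw [ht, QuadraticMap.polar_comm Q b (t • a₀), polar_smul_left', ← two_mul, mul_eq_zero, or_iff_right h2,
        mul_eq_zero, or_iff_right ht0, QuadraticMap.polar_comm] at h4
      rw [h4, mul_zero, add_zero] at h3
      rw [ht, polar_smul_left', h3]
    have hN3 : ∀ w ∈ K₀, N (N (N w)) = 0 := by
      intro w hw
      have hnil : IsNilpotent (N.restrict hNK) := ⟨p, LinearMap.ext fun z => Subtype.ext (by
        rw [Module.End.pow_restrict p, LinearMap.restrict_coe_apply, hNp]; rfl)⟩
      have h1 := LinearMap.aeval_self_charpoly (N.restrict hNK)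
      rw [hnil.charpoly_eq_X_pow_finrank, map_pow, aeval_X, hKfin, Module.End.pow_restrict 3] at h1
      have h2 := congrArg Subtype.val (LinearMap.congr_fun h1 ⟨w, hw⟩)
      simpa [pow_succ, Module.End.mul_apply] using h2
    let bf : Fin 3 → K₀ := ![⟨v, hv⟩, ⟨N v, hNK v hv⟩, ⟨N (N v), hNK _ (hNK v hv)⟩]
    have hli : LinearIndependent F bf := by
      rw [Fintype.linearIndependent_iff]
      intro cs hcs
      have h0 := congrArg Subtype.val hcs
      simp [bf, Fin.sum_univ_three] at h0
      have e1 : cs 0 = 0 := by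
        have h := congrArg (fun z => N (N z)) h0
        simp [hN3 v hv, hN3 (N v) (hNK v hv)] at h
        exact h.resolve_right hNNv
      have e2 : cs 1 = 0 := by
        have h := congrArg (fun z => N z) h0
        simp [e1, hN3 v hv] at h
        exact h.resolve_right hNNv
      have e3 : cs 2 = 0 := by
        simp [e1, e2] at h0
        exact h0.resolve_right hNNv
      intro i
      fin_cases i <;> assumption
    let bas := basisOfLinearIndependentOfCardEqFinrank hli (by rw [Fintype.card_fin, hKfin])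
    have hSK := (hcomm S hST).2.1
    obtain ⟨cs, hcs⟩ : ∃ cs : Fin 3 → F, ∀ w ∈ K₀, S w = cs 0 • w + cs 1 • N w + cs 2 • N (N w) := by
      obtain ⟨cs, hcs⟩ : ∃ cs : Fin 3 → F, ∑ i, cs i • bf i = ⟨S v, hSK v hv⟩ :=
        ⟨fun i => bas.repr ⟨S v, hSK v hv⟩ i, by
          have := bas.sum_repr ⟨S v, hSK v hv⟩
          simpa [bas] using this⟩
      refine ⟨cs, fun w hw => ?_⟩
      have hSv : S v = cs 0 • v + cs 1 • N v + cs 2 • N (N v) := by
        have := congrArg Subtype.val hcs
        simp [bf, Fin.sum_univ_three] at this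
        exact this.symm
      have hcN : ∀ z, S (N z) = N (S z) := LinearMap.congr_fun ((hSU.sub_right (Commute.one_right _)).eq)
      obtain ⟨ds, hds⟩ : ∃ ds : Fin 3 → F, ∑ i, ds i • bf i = ⟨w, hw⟩ :=
        ⟨fun i => bas.repr ⟨w, hw⟩ i, by
          have := bas.sum_repr ⟨w, hw⟩
          simpa [bas] using this⟩
      have := congrArg Subtype.val hds
      simp [bf, Fin.sum_univ_three] at this
      rw [← this]
      simp only [map_add, map_smul, hcN, hSv, hN3 v hv, smul_zero, add_zero, map_zero, smul_add, smul_smul,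
        mul_comm]
      abel
    refine ⟨cs 0, fun w hw => ?_⟩
    -- the nilpotent part is killed by the coprime period
    set R := S - cs 0 • (1 : Module.End F V) with hR'
    have hR3 : ∀ w ∈ K₀, R (R (R w)) = 0 := by
      have hR1 : ∀ w ∈ K₀, R w = cs 1 • N w + cs 2 • N (N w) := fun w hw => by
        rw [hR', LinearMap.sub_apply, LinearMap.smul_apply, Module.End.one_apply, hcs w hw]; abel
      have hR2 : ∀ w ∈ K₀, R w ∈ K₀ := fun w hw => by
        rw [hR1 w hw]
        exact add_mem (K₀.smul_mem _ (hNK w hw)) (K₀.smul_mem _ (hNK _ (hNK w hw)))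
      intro w hw
      rw [hR1 _ (hR2 _ (hR2 w hw)), hR1 _ (hR2 w hw), hR1 w hw]
      simp [map_add, map_smul, hN3 w hw, hN3 _ (hNK w hw)]
    have hSp : ∀ w ∈ K₀, (S ^ p) w = cs 0 ^ p • w := by
      intro w hw
      have hRp : R ^ p = S ^ p - cs 0 ^ p • (1 : Module.End F V) := by
        rw [hR', sub_pow_char_of_commute p ((Commute.one_right S).smul_right _), _root_.smul_pow, one_pow]
      have h3p : 3 ≤ p := by have := hp.two_le; omega
      have h := LinearMap.congr_fun hRp w
      rw [← Nat.sub_add_cancel h3p, pow_add, Module.End.mul_apply,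
        show (R ^ 3) w = 0 by simpa [pow_succ, Module.End.mul_apply] using hR3 w hw, map_zero,
        Nat.sub_add_cancel h3p] at h
      rw [LinearMap.sub_apply, LinearMap.smul_apply, Module.End.one_apply, eq_comm, sub_eq_zero] at h
      exact h
    obtain ⟨k, hk⟩ : ∃ k, p * k ≡ 1 [MOD Mo] :=
      ⟨((p : ZMod Mo)⁻¹).val, by
        haveI : NeZero Mo := ⟨by omega⟩
        rw [← ZMod.natCast_eq_natCast_iff, Nat.cast_mul, ZMod.natCast_zmod_val,
          ZMod.coe_mul_inv_eq_one p (hp.coprime_iff_not_dvd.2 hpMo), Nat.cast_one]⟩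
    have hS1 : S ^ (p * k) = S := by
      rw [pow_eq_pow_mod (p * k) hSM, hk, ← pow_eq_pow_mod 1 hSM, pow_one]
    have hkey : ∀ j : ℕ, ∀ w ∈ K₀, ((S ^ p) ^ j) w = (cs 0 ^ p) ^ j • w := by
      intro j
      induction j with
      | zero => intro w _; simp
      | succ j ih =>
        intro w hw
        rw [pow_succ, Module.End.mul_apply, hSp w hw, map_smul, ih w hw, smul_smul, ← pow_succ']
    have hSscal : ∀ w ∈ K₀, S w = (cs 0 ^ p) ^ k • w := fun w hw => by
      conv_lhs => rw [← hS1, pow_mul]
      exact hkey k w hw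
    have hk0 : (cs 0 ^ p) ^ k = cs 0 := by
      have h1 := hSscal v hv
      rw [hcs v hv] at h1
      have h2' := congrArg (fun z => N (N z)) h1
      simp [hN3 v hv, hN3 (N v) (hNK v hv)] at h2'
      exact (smul_left_injective F hNNv h2').symm
    rw [hSscal w hw, hk0]
  -- a nonsingular vector in `K₀`
  have hc1 : c * c = 1 := by
    obtain ⟨v, hv, hv0⟩ : ∃ v ∈ K₀, polar Q v v ≠ 0 := by
      by_contra hcon
      push Not at hcon
      obtain ⟨v, hv, hv1⟩ := Submodule.exists_mem_ne_zero_of_ne_bot
        (show K₀ ≠ ⊥ from fun h => by rw [h, finrank_bot] at hKfin; omega)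
      refine hv1 (hQ.1 v fun z => ?_)
      show polar Q v z = 0
      obtain ⟨a, ha, b, hb, rfl⟩ := Submodule.mem_sup.1 ((codisjoint_iff.1 hcompl.2).ge (Submodule.mem_top (x := z)))
      rw [polar_add_right', QuadraticMap.polar_comm Q v a, horth a ha v hv, zero_add]
      have h1 := hcon (v + b) (add_mem hv hb)
      rw [QuadraticMap.polar_add_left, polar_add_right', polar_add_right', hcon v hv, hcon b hb,
        QuadraticMap.polar_comm Q b v, zero_add, add_zero, ← two_mul] at h1
      exact (mul_eq_zero.1 h1).resolve_left h2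
    have h1 := hiso v v
    rw [hc v hv, polar_smul_left', polar_smul_right', ← mul_assoc] at h1
    exact (mul_eq_right₀ hv0).1 h1
  -- the field acting on `W`
  have hST : Commute S T := Commute.self_pow S _
  have hSW := (hcomm S hST).1
  set A : Module.End F W := S.restrict hSW with hA
  set f := minpoly F A with hf
  have hAint : IsIntegral F A := Algebra.IsIntegral.isIntegral A
  haveI : Nontrivial W := Submodule.nontrivial_iff_ne_bot.2 hWne
  have hAcoe : ∀ (P : F[X]) (w : W), (aeval A P w : V) = aeval S P (w : V) := by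
    intro P
    induction P using Polynomial.induction_on' with
    | add P R hP hR' => intro w; simp [map_add, hP, hR']
    | monomial k a =>
      intro w
      rw [aeval_monomial, aeval_monomial, hA, Module.End.pow_restrict k]
      simp [Module.algebraMap_end_apply]
  have hzi : ∀ P : F[X], aeval A P ≠ 0 → ∀ w : W, aeval A P w = 0 → w = 0 := by
    intro P hP w hw
    have hcP : Commute (aeval S P) T := by
      have h1 : Commute (aeval S P) (aeval S (X ^ (Mo / r) : F[X])) := (Commute.all P (X ^ (Mo / r))).map (aeval S)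
      rwa [map_pow, aeval_X] at h1
    rcases (hcomm _ hcP).2.2 with h | h
    · exact absurd (LinearMap.ext fun z => Subtype.ext (by rw [hAcoe]; exact h z z.2)) hP
    · refine Subtype.ext (h w w.2 ?_)
      rw [← hAcoe, hw]
      rfl
  have hfi : Irreducible f := by
    refine (minpoly.monic hAint).irreducible_iff_natDegree.2 ⟨fun h => ?_, fun P R hPm hRm hPR => ?_⟩
    · have := minpoly.natDegree_pos hAint
      rw [h, natDegree_one] at this
      exact lt_irrefl 0 this
    by_cases hP0 : aeval A P = 0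
    · right
      have h1 := natDegree_le_of_dvd (minpoly.dvd F A hP0) hPm.ne_zero
      have h2' := congrArg natDegree hPR
      rw [hPm.natDegree_mul hRm] at h2'
      omega
    · left
      have hR0 : aeval A R = 0 := LinearMap.ext fun w => hzi P hP0 _ (by
        rw [← Module.End.mul_apply, ← map_mul, hPR]
        show aeval A (minpoly F A) w = 0
        rw [minpoly.aeval]; rfl)
      have h1 := natDegree_le_of_dvd (minpoly.dvd F A hR0) hRm.ne_zero
      have h2' := congrArg natDegree hPR
      rw [hPm.natDegree_mul hRm] at h2'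
      omega
  haveI : Fact (Irreducible f) := ⟨hfi⟩
  set K := AdjoinRoot f with hKdef
  let pb := AdjoinRoot.powerBasis hfi.ne_zero
  haveI : FiniteDimensional F K := pb.finite
  haveI : Finite K := Module.finite_of_finite F
  haveI : Fintype K := Fintype.ofFinite K
  let ψ : K →ₐ[F] Module.End F W := Ideal.Quotient.liftₐ (Ideal.span {f}) (aeval A) (fun z hz => by
    obtain ⟨R, rfl⟩ := Ideal.mem_span_singleton.1 hz
    rw [map_mul, show aeval A f = 0 from minpoly.aeval F A, zero_mul])
  have hψmk : ∀ P, ψ (AdjoinRoot.mk f P) = aeval A P := fun P => rfl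
  set a := AdjoinRoot.root f with hadef
  have hψa : ψ a = A := by rw [hadef, ← AdjoinRoot.mk_X, hψmk, aeval_X]
  have hψinj : Function.Injective ψ := ψ.toRingHom.injective
  obtain ⟨w₀, hw₀⟩ := exists_ne (0 : W)
  let e₀ : K →ₗ[F] W :=
    { toFun := fun x => ψ x w₀, map_add' := by intro x y; simp, map_smul' := by intro t x; simp }
  have he₀ : Function.Injective e₀ := by
    rw [injective_iff_map_eq_zero]
    intro x hx
    obtain ⟨P, rfl⟩ := AdjoinRoot.mk_surjective x
    by_contra hne
    refine hw₀ (hzi P (fun h => hne (hψinj ?_)) w₀ ?_)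
    · rw [hψmk, h, map_zero]
    · rw [← hψmk]; exact hx
  have hKW : finrank F K = 2 * d := by
    have hle := LinearMap.finrank_le_finrank_of_injective he₀
    have hsur : LinearMap.range e₀ = ⊤ := by
      refine Submodule.eq_top_of_finrank_eq (le_antisymm (Submodule.finrank_le _) ?_)
      set L := (LinearMap.range e₀).map W.subtype with hL
      have h1 : ∀ z ∈ L, T z ∈ L := by
        rintro _ ⟨_, ⟨x, rfl⟩, rfl⟩
        refine ⟨_, ⟨a ^ (Mo / r) * x, rfl⟩, ?_⟩
        show (ψ (a ^ (Mo / r) * x) w₀ : V) = T (ψ x w₀ : V)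
        rw [map_mul, map_pow, hψa, Module.End.mul_apply, hA, Module.End.pow_restrict (Mo / r)]
        rfl
      obtain ⟨k, hk⟩ := hdimdvd L (Submodule.map_subtype_le _ _) h1
      rw [hL, Submodule.finrank_map_subtype_eq] at hk
      have hpos : 0 < finrank F (LinearMap.range e₀) := by
        rw [LinearMap.finrank_range_of_inj he₀, pb.finrank]
        exact hfi.natDegree_pos.trans_eq (by simp [pb])
      rw [hWfin, hk]
      exact Nat.le_mul_of_pos_right _ (Nat.pos_of_ne_zero fun h => by rw [h, mul_zero] at hk; omega)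
    rw [← hWfin, ← LinearMap.finrank_range_of_inj he₀, hsur, finrank_top]
  let e : K →ₗ[F] V := W.subtype.comp e₀
  have hei : Function.Injective e := Subtype.val_injective.comp he₀
  have hea : ∀ x, S (e x) = e (a * x) := fun x => by
    show S (ψ x w₀ : V) = (ψ (a * x) w₀ : V)
    rw [map_mul, hψa, Module.End.mul_apply, hA]
    rfl
  have hcardK : Fintype.card K = q ^ (2 * d) := by rw [Module.card_eq_pow_finrank (K := F), hKW]
  have haM : a ^ Mo = 1 := hψinj (by
    rw [map_pow, hψa, map_one, hA, Module.End.pow_restrict Mo]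
    exact LinearMap.ext fun w => Subtype.ext (by rw [LinearMap.restrict_coe_apply, hSM]; rfl))
  have ha0 : a ≠ 0 := fun h => by rw [h, zero_pow (by omega)] at haM; exact zero_ne_one haM
  -- `S ≠ 1` on `W`
  have ha1 : a ≠ 1 := by
    intro h
    obtain ⟨w, hw, hw0⟩ := Submodule.exists_mem_ne_zero_of_ne_bot hWne
    have h1 : S w = w := by
      have : A = 1 := by rw [← hψa, h, map_one]
      have := congrArg Subtype.val (LinearMap.congr_fun this ⟨w, hw⟩)
      exact this
    have h3 : ∀ k : ℕ, (S ^ k) w = w := by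
      intro k
      induction k with
      | zero => rfl
      | succ k ih => rw [pow_succ, Module.End.mul_apply, h1, ih]
    refine hw0 (hdisj.le_bot ⟨hw, ?_⟩)
    rw [SetLike.mem_coe, hK₀, LinearMap.mem_ker, LinearMap.sub_apply, Module.End.one_apply, sub_eq_zero]
    exact h3 _
  have hmovW : ∀ w ∈ W, ∃ z ∈ W, z - S z = w := by
    intro w hw
    have hcS : Commute (1 - S : Module.End F V) T := (Commute.one_left _).sub_left hST
    have hinj : Function.Injective ((1 - S).restrict (hcomm _ hcS).1) := by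
      rw [injective_iff_map_eq_zero]
      intro z hz
      rcases (hcomm _ hcS).2.2 with h | h
      · exfalso
        refine ha1 (hψinj ?_)
        rw [hψa, map_one]
        refine LinearMap.ext fun y => Subtype.ext ?_
        have := h y y.2
        rw [LinearMap.sub_apply, Module.End.one_apply, sub_eq_zero] at this
        exact this.symm
      · exact Subtype.ext (h z z.2 (congrArg Subtype.val hz))
    obtain ⟨z, hz⟩ := LinearMap.surjective_of_injective hinj ⟨w, hw⟩
    exact ⟨z, z.2, congrArg Subtype.val hz⟩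
  -- the sign on `K₀` is positive
  have hc' : c = 1 := by
    rcases mul_self_eq_one_iff.1 hc1 with h | h
    · exact h
    exfalso
    have htop : mov s = ⊤ := by
      rw [eq_top_iff]
      rintro z -
      obtain ⟨x, hx, y, hy, rfl⟩ := Submodule.mem_sup.1 ((codisjoint_iff.1 hcompl.2).ge (Submodule.mem_top (x := z)))
      obtain ⟨x', -, hx''⟩ := hmovW x hx
      refine add_mem ⟨x', hx''⟩ ⟨(2 : F)⁻¹ • y, ?_⟩
      rw [movMap_apply, map_smul, show (s : V ≃ₗ[F] V) y = c • y from hc y hy, h, neg_one_smul, smul_neg,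
        sub_neg_eq_add, ← two_smul F, smul_smul, mul_inv_cancel₀ h2, one_smul]
    have h1 : par s = 0 := by
      have hpk : ∀ k : ℕ, par (g ^ k) = 0 := by
        intro k
        induction k with
        | zero => rw [pow_zero, par_one hQ]
        | succ k ih => rw [pow_succ, par_mul hQ hR, ih, hpar, add_zero]
      exact hpk p
    rw [par, htop, finrank_top, hV, ZMod.natCast_eq_zero_iff] at h1
    omega
  have hmov : mov s = W := by
    refine le_antisymm ?_ fun w hw => ?_
    · rintro _ ⟨z, rfl⟩
      obtain ⟨x, hx, y, hy, rfl⟩ := Submodule.mem_sup.1 ((codisjoint_iff.1 hcompl.2).ge (Submodule.mem_top (x := z)))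
      rw [movMap_apply, map_add, show (s : V ≃ₗ[F] V) y = y from (hc y hy).trans (by rw [hc', one_smul]),
        add_sub_add_right_eq_sub]
      exact sub_mem hx (hSW x hx)
    · obtain ⟨z, -, hz⟩ := hmovW w hw
      exact ⟨z, hz⟩
  -- the order of `a`
  have hao : orderOf a = Mo := by
    refine Nat.dvd_antisymm (orderOf_dvd_of_pow_eq_one haM) (hso ▸ orderOf_dvd_of_pow_eq_one (hφi ?_))
    rw [map_pow, map_one, ← hS]
    refine LinearMap.ext fun z => ?_
    obtain ⟨x, hx, y, hy, rfl⟩ := Submodule.mem_sup.1 ((codisjoint_iff.1 hcompl.2).ge (Submodule.mem_top (x := z)))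
    have hy' : ∀ k : ℕ, (S ^ k) y = y := by
      intro k
      induction k with
      | zero => rfl
      | succ k ih => rw [pow_succ, Module.End.mul_apply, hc y hy, hc', one_smul, ih]
    have hx' : (A ^ orderOf a) ⟨x, hx⟩ = ⟨x, hx⟩ := by
      rw [← hψa, ← map_pow, pow_orderOf_eq_one, map_one]; rfl
    rw [hA, Module.End.pow_restrict (orderOf a)] at hx'
    rw [map_add, hy', show (S ^ orderOf a) x = x from congrArg Subtype.val hx']
    rfl
  -- the form on `K`
  have hadj : ∀ x y z : K, polar Q (e (x * y)) (e z) = polar Q (e y) (e (x ^ q ^ d * z)) := by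
    obtain ⟨e', hp', hq'⟩ := FiniteField.card F p
    haveI : CharP K p := charP_of_injective_algebraMap (algebraMap F K).injective p
    have haQ : a ^ q ^ d * a = 1 := by rw [← pow_succ]; exact haM
    intro x
    obtain ⟨P, rfl⟩ := AdjoinRoot.mk_surjective x
    have hfix : ∀ t : F, algebraMap F K t ^ q ^ d = algebraMap F K t := fun t => by
      rw [← map_pow, hq, FiniteField.pow_card_pow]
    induction P using Polynomial.induction_on with
    | C t =>
      intro y z
      rw [AdjoinRoot.mk_C, ← AdjoinRoot.algebraMap_eq, hfix, ← Algebra.smul_def, ← Algebra.smul_def, map_smul,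
        map_smul, polar_smul_left', polar_smul_right']
    | add P R hP hR' =>
      intro y z
      rw [map_add, add_mul, map_add, QuadraticMap.polar_add_left, hP, hR',
        show (AdjoinRoot.mk f P + AdjoinRoot.mk f R) ^ q ^ d = AdjoinRoot.mk f P ^ q ^ d + AdjoinRoot.mk f R ^ q ^ d by
          rw [hq, hq', ← pow_mul, add_pow_char_pow], add_mul, map_add, polar_add_right']
    | monomial k t ih =>
      intro y z
      have hm : AdjoinRoot.mk f (C t * X ^ (k + 1)) = AdjoinRoot.mk f (C t * X ^ k) * a := by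
        rw [pow_succ, ← mul_assoc, map_mul, AdjoinRoot.mk_X]
      rw [hm, mul_assoc, ih, ← hiso (e y), hea, hea, mul_pow]
      congr 2
      calc AdjoinRoot.mk f (C t * X ^ k) ^ q ^ d * z
          = AdjoinRoot.mk f (C t * X ^ k) ^ q ^ d * z * (a ^ q ^ d * a) := by rw [haQ, mul_one]
        _ = a * (AdjoinRoot.mk f (C t * X ^ k) ^ q ^ d * a ^ q ^ d * z) := by ring
  obtain ⟨μ, hμ⟩ := exists_trace_rep ((polarBilin Q (e 1)).comp e)
  have hpol : ∀ x y, polar Q (e x) (e y) = Algebra.trace F K (μ * (x ^ q ^ d * y)) := fun x y => by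
    rw [← mul_one x, hadj, mul_one]
    exact hμ _
  have htrQ : ∀ x : K, Algebra.trace F K (x ^ q ^ d) = Algebra.trace F K x := fun x => by
    conv_rhs => rw [← Algebra.trace_eq_of_algEquiv (FiniteField.frobeniusAlgEquivOfAlgebraic F K ^ d) x]
    rw [AlgEquiv.coe_pow, FiniteField.coe_frobeniusAlgEquivOfAlgebraic_iterate]
  have hperK : ∀ x : K, (x ^ q ^ d) ^ q ^ d = x := fun x => by
    rw [← pow_mul, ← pow_add, ← two_mul, ← hcardK, FiniteField.pow_card]
  have hμQ : μ ^ q ^ d = μ := by
    refine sub_eq_zero.1 ((traceForm_nondegenerate F K).1 _ fun x => ?_)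
    show Algebra.traceForm F K (μ ^ q ^ d - μ) x = 0
    rw [Algebra.traceForm_apply, sub_mul, map_sub, sub_eq_zero, ← htrQ (μ ^ q ^ d * x), mul_pow, hperK]
    have h1 := hpol 1 x
    have h2' := hpol x 1
    rw [QuadraticMap.polar_comm] at h2'
    simp only [one_pow, one_mul, mul_one] at h1 h2'
    rw [← h1, ← h2']
  have hμ0 : μ ≠ 0 := by
    intro h
    refine one_ne_zero (hei ((hQ.1 (e 1) fun z => ?_).trans (map_zero e).symm))
    show polar Q (e 1) z = 0
    obtain ⟨x, hx, y, hy, rfl⟩ := Submodule.mem_sup.1 ((codisjoint_iff.1 hcompl.2).ge (Submodule.mem_top (x := z)))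
    obtain ⟨x', hx'⟩ := LinearMap.surjective_of_injective (f := (LinearEquiv.ofFinrankEq W K (hWfin.trans hKW.symm)).toLinearMap.comp e₀)
      ((LinearEquiv.injective _).comp he₀) (LinearEquiv.ofFinrankEq W K (hWfin.trans hKW.symm) ⟨x, hx⟩)
    have hx'' : e x' = x := congrArg Subtype.val
      ((LinearEquiv.ofFinrankEq W K (hWfin.trans hKW.symm)).injective hx')
    rw [polar_add_right', show polar Q (e 1) y = 0 from horth _ (e₀ 1).2 y hy, add_zero, ← hx'', hpol, h, zero_mul, map_zero]
  -- the Wall matrix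
  let b := Module.finBasisOfFinrankEq F K hKW
  have ha1' : (1 : K) - a ≠ 0 := sub_ne_zero.2 (Ne.symm ha1)
  have hz : ∀ i, movMap s (e (b i)) = e ((1 - a) * b i) := fun i => by
    rw [movMap_apply, show (s : V ≃ₗ[F] V) (e (b i)) = e (a * b i) from hea _, sub_mul, one_mul, map_sub]
  have hli : LinearIndependent F fun i => e ((1 - a) * b i) := by
    have := b.linearIndependent.map' (e.comp (LinearMap.mulLeft F (1 - a)))
      (LinearMap.ker_eq_bot.2 (hei.comp (mul_right_injective₀ ha1')))
    exact this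
  have hspan : Submodule.span F (Set.range fun i => e ((1 - a) * b i)) = mov s := by
    refine Submodule.eq_of_le_of_finrank_eq (Submodule.span_le.2 ?_) ?_
    · rintro _ ⟨i, rfl⟩
      exact ⟨e (b i), hz i⟩
    · rw [finrank_span_eq_card hli, Fintype.card_fin, hmov, hWfin]
  have hspin : spinor s = 1 := by
    have hsk : ∀ k : ℕ, spinor (g ^ k) = 1 := by
      intro k
      induction k with
      | zero => rw [pow_zero, spinor_one hQ]
      | succ k ih => rw [pow_succ, spinor_mul hQ hR, ih, hsp, one_mul]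
    exact hsk p
  set X₀ := (wallMat Q (fun i => e ((1 - a) * b i)) (fun i => e (b i))).det with hX₀
  have hX0 : X₀ ≠ 0 := det_wallMat_ne_zero hQ s hli hspan hz
  have hsq : IsSquare X₀ := by
    rw [← sqc_eq_one_iff hX0, hX₀, ← spinor_eq hQ s hli hspan hz, hspin]
  obtain ⟨D, hD0, hDq, hdet⟩ := det_twisted_trace (by omega : 1 ≤ d) hKW b (μ * (1 - a))
  have hXK : algebraMap F K X₀ =
      D ^ (q ^ d + 1) * (μ * (1 - a)) ^ ((q ^ (2 * d) - 1) / (q - 1)) := by
    rw [← hdet, hX₀]
    congr 2
    ext i j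
    show polar Q (e (b i)) (e ((1 - a) * b j)) = _
    rw [hpol, Matrix.of_apply]
    congr 1
    ring
  -- the quadratic character
  obtain ⟨m, hm⟩ := hodd
  obtain ⟨M2, hM2⟩ : ∃ M2, q ^ d + 1 = 2 * M2 := by
    obtain ⟨w, hw⟩ := (show Odd q from ⟨m, hm⟩).pow (n := d)
    exact ⟨w + 1, by omega⟩
  have hX1 : algebraMap F K X₀ ^ m = 1 := by
    obtain ⟨y, hy⟩ := hsq
    have hy0 : y ≠ 0 := fun h => hX0 (by rw [hy, h, mul_zero])
    rw [hy, ← map_pow, ← pow_two, ← pow_mul, show 2 * m = q - 1 by omega, hq,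
      FiniteField.pow_card_sub_one_eq_one y hy0, map_one]
  have hDm : D ^ (q - 1) = -1 := by
    refine mul_right_cancel₀ hD0 ?_
    rw [← pow_succ, Nat.sub_add_cancel hq1.le, hq, hDq, neg_one_mul]
  have hQQ : q ^ (2 * d) - 1 = (q ^ d + 1) * (q ^ d - 1) := by
    rw [← Nat.sq_sub_sq, one_pow, ← pow_mul, mul_comm]
  have hexp : (q ^ (2 * d) - 1) / (q - 1) * m = (q ^ d - 1) * M2 := by
    have h1 : q - 1 ∣ q ^ (2 * d) - 1 := by simpa using Nat.sub_dvd_pow_sub_pow q 1 (2 * d)
    obtain ⟨w, hw⟩ := h1
    rw [hw, Nat.mul_div_cancel_left _ (by omega)]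
    rw [hQQ, hM2, show q - 1 = 2 * m by omega] at hw
    exact Nat.eq_of_mul_eq_mul_left two_pos (by linear_combination -hw)
  have hμpow : μ ^ (q ^ d - 1) = 1 := by
    refine mul_right_cancel₀ hμ0 ?_
    rw [← pow_succ, Nat.sub_add_cancel (Nat.one_le_pow _ _ (by omega)), hμQ, one_mul]
  have ha2 : a ^ M2 = -1 := by
    have h1 : (a ^ M2) ^ 2 = 1 := by rw [← pow_mul, mul_comm, ← hM2]; exact haM
    refine ((sq_eq_one_iff).1 h1).resolve_left fun h => ?_
    have := Nat.le_of_dvd (show 0 < M2 by omega) (hao ▸ orderOf_dvd_of_pow_eq_one h)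
    omega
  have h1a : (1 - a) ^ (q ^ d - 1) = -a⁻¹ := by
    obtain ⟨e', hp', hq'⟩ := FiniteField.card F p
    haveI : CharP K p := charP_of_injective_algebraMap (algebraMap F K).injective p
    refine mul_right_cancel₀ ha1' ?_
    rw [← pow_succ, Nat.sub_add_cancel (Nat.one_le_pow _ _ (by omega)), hq, hq', ← pow_mul, sub_pow_char_pow,
      one_pow, pow_mul, ← hq', ← hq, show a ^ q ^ d = a⁻¹ from eq_inv_of_mul_eq_one_left (by rw [← pow_succ]; exact haM)]
    field_simp
    ring
  rw [hXK, mul_pow (D ^ (q ^ d + 1)), ← pow_mul, ← pow_mul, hexp, mul_pow μ, pow_mul μ, hμpow, one_pow, one_mul,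
    pow_mul (1 - a), h1a, neg_pow, inv_pow, ha2, hM2, show 2 * M2 * m = (q - 1) * M2 by
      rw [show q - 1 = 2 * m by omega]; ring,
    pow_mul, hDm, ← mul_assoc, ← mul_pow, neg_one_mul, neg_neg, one_pow, one_mul, inv_neg, inv_one] at hX1
  have h2K : (2 : K) = 0 := by linear_combination -hX1
  exact h2 ((algebraMap F K).injective (by rw [map_ofNat, map_zero]; exact h2K))

/-- The spectra of `PΩ (2n+1, q)` and `PSp (2n, q)` differ. -/
theorem spectra_ne (hodd : Odd (Fintype.card F)) (n : ℕ) (hn : 3 ≤ n) :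
    Set.range (orderOf : Cfsg.POmega F (Cfsg.quadFormOdd n F) → ℕ) ≠ Set.range (orderOf : Cfsg.PSp n F → ℕ) := by
  classical
  obtain ⟨p, hchar⟩ := CharP.exists F
  haveI := hchar
  have hp : p.Prime := CharP.char_is_prime F p
  haveI := Fact.mk hp
  have h2 : (2 : F) ≠ 0 := two_ne_zero_of_odd rfl hodd
  have hp2 : p ≠ 2 := fun h => h2 (by
    have := (CharP.cast_eq_zero_iff F p 2).2 (by rw [h])
    exact_mod_cast this)
  obtain ⟨b, rfl⟩ : ∃ b, n = b + 1 := ⟨n - 1, by omega⟩
  set N := p * (Fintype.card F ^ b + 1) with hN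
  have hsymp : N ∈ Set.range (orderOf : Cfsg.PSp (b + 1) F → ℕ) := by
    obtain ⟨T, hT⟩ := SympSpectrum.exists_torus (F := F) (d := b) (by omega) (N := Fintype.card F ^ b + 1)
      (Or.inl (by rw [Nat.card_eq_fintype_card]))
    obtain ⟨U, ⟨j, hj⟩, hU⟩ := SympSpectrum.exists_unipotent (F := F) (p := p) (b := 1) le_rfl
    obtain ⟨x, hx1, hx2⟩ := SympSpectrum.dvd_orderOf_block (by omega) T U le_rfl (hj ▸ (hp.odd_of_ne_two hp2).pow)
    have hU0 := hU 0 (by norm_num)
    rw [pow_one] at hU0
    rw [hT] at hx1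
    obtain ⟨c, -, hc⟩ := FiniteField.card F p
    have hcop : Nat.Coprime p (Fintype.card F ^ b + 1) := hp.coprime_iff_not_dvd.2 fun h => hp.ne_one
      (Nat.dvd_one.1 ((Nat.dvd_add_right (hc ▸ (dvd_pow_self p c.pos.ne').trans (dvd_pow_self _ (by omega)))).1 h))
    exact ⟨x ^ (orderOf x / N), orderOf_pow_orderOf_div (orderOf_pos x).ne'
      (hcop.mul_dvd_of_dvd_of_dvd (hU0.trans hx2) hx1)⟩
  intro heq
  rw [← heq] at hsymp
  obtain ⟨y, hy⟩ := hsymp
  obtain ⟨x, rfl⟩ := QuotientGroup.mk_surjective y
  obtain ⟨w, hw⟩ : ∃ w : Cfsg.Omega F ⇑(qOdd (b + 1) F), orderOf w = N := by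
    rw [coe_qOdd]
    exact ⟨x ^ (orderOf x / N), orderOf_pow_orderOf_div (orderOf_pos x).ne' (hy ▸ orderOf_map_dvd (QuotientGroup.mk' _) x)⟩
  have hQ := qOdd_nondeg (F := F) h2 (b + 1)
  have hdim : finrank F (Unit ⊕ (Fin (b + 1) ⊕ Fin (b + 1)) → F) = 2 * (b + 1) + 1 := by
    rw [Module.finrank_pi]
    simp
    ring
  have hR : reflGroup (qOdd (b + 1) F) = ⊤ := reflGroup_eq_top hQ (Or.inr (by rw [hdim]; omega))
  set g := omegaEquiv (qOdd (b + 1) F) w with hg
  obtain ⟨hpar, hsp⟩ := (mem_commutator_iff hQ hR (g : OQ (qOdd (b + 1) F))).1 g.2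
  refine no_element (p := p) hodd hQ hR hn hdim (g : OQ (qOdd (b + 1) F)) ?_ hpar hsp
  rw [Subgroup.orderOf_coe, hg, MulEquiv.orderOf_eq, Nat.add_sub_cancel]
  exact hw

end CfsgLib.HallGen.OrthSpectrum
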